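import Mathlib

/-!
Lifting of representations of `p'`-groups over `ZMod p` to the `p`-adic integers.
-/

set_option autoImplicit false

namespace Cfsg.Agent.SL3Geo60

open Matrix
open scoped Classical

variable {p : ℕ} [Fact p.Prime] {n : ℕ}

/-- The reduction `ZMod (p ^ k) → ZMod p`. -/
noncomputable abbrev red (p : ℕ) {k : ℕ} (hk : 1 ≤ k) : ZMod (p ^ k) →+* ZMod p :=
  ZMod.castHom (dvd_pow_self p (Nat.one_le_iff_ne_zero.mp hk)) (ZMod p)

omit [Fact p.Prime] in
theorem red_surjective {k : ℕ} (hk : 1 ≤ k) : Function.Surjective (red p hk) :=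
  ZMod.ringHom_surjective _

theorem ringHom_eq_toZMod (f : ℤ_[p] →+* ZMod p) : f = PadicInt.toZMod := by
  refine RingHom.ext fun x => ?_
  have h : x - (PadicInt.zmodRepr x : ℤ_[p]) ∈ IsLocalRing.maximalIdeal ℤ_[p] :=
    PadicInt.sub_zmodRepr_mem x
  rw [PadicInt.maximalIdeal_eq_span_p, Ideal.mem_span_singleton] at h
  obtain ⟨y, hy⟩ := h
  have hx : x = (PadicInt.zmodRepr x : ℤ_[p]) + (p : ℤ_[p]) * y := by
    rw [← hy]; ring
  rw [hx]
  simp

theorem toZMod_eq_red_comp {k : ℕ} (hk : 1 ≤ k) (x : ℤ_[p]) :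
    red p hk (PadicInt.toZModPow k x) = PadicInt.toZMod x :=
  RingHom.congr_fun (ringHom_eq_toZMod ((red p hk).comp (PadicInt.toZModPow k))) x

theorem isClosed_preimage_toZModPow (k : ℕ) (s : Set (ZMod (p ^ k))) :
    IsClosed ((PadicInt.toZModPow (p := p) k) ⁻¹' s) := by
  have : NeZero (p ^ k) := ⟨pow_ne_zero _ (Fact.out : p.Prime).ne_zero⟩
  rw [← Set.biUnion_preimage_singleton]
  refine Set.Finite.isClosed_biUnion s.toFinite fun c _ => ?_
  obtain ⟨x₀, rfl⟩ := ZMod.ringHom_surjective (PadicInt.toZModPow (p := p) k) c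
  have : (PadicInt.toZModPow (p := p) k) ⁻¹' {PadicInt.toZModPow k x₀} =
      Metric.closedBall x₀ ((p : ℝ) ^ (-(k : ℤ))) := by
    ext x
    rw [Set.mem_preimage, Set.mem_singleton_iff, Metric.mem_closedBall, dist_eq_norm,
      PadicInt.norm_le_pow_iff_mem_span_pow, ← PadicInt.ker_toZModPow, RingHom.mem_ker, map_sub,
      sub_eq_zero]
  rw [this]
  exact Metric.isClosed_closedBall

theorem isPGroup_ker {k : ℕ} (hk : 1 ≤ k) :
    IsPGroup p (Matrix.GeneralLinearGroup.map (n := Fin n) (red p hk)).ker := by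
  have : NeZero (p ^ k) := ⟨pow_ne_zero _ (Fact.out : p.Prime).ne_zero⟩
  rintro ⟨x, hx⟩
  refine ⟨k - 1, Subtype.ext (Units.ext ?_)⟩
  have hA : ∀ i j, ∃ a : ZMod (p ^ k),
      ((x : Matrix (Fin n) (Fin n) (ZMod (p ^ k))) - 1) i j = (p : ZMod (p ^ k)) * a := by
    intro i j
    set z := ((x : Matrix (Fin n) (Fin n) (ZMod (p ^ k))) - 1) i j with hz
    have hz0 : red p hk z = 0 := by
      have h1 : ((x : Matrix (Fin n) (Fin n) (ZMod (p ^ k))).map (red p hk)) = 1 :=
        congrArg Units.val hx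
      have h2 := congrFun (congrFun h1 i) j
      rw [Matrix.map_apply] at h2
      rw [hz, Matrix.sub_apply, map_sub, h2]
      rcases eq_or_ne i j with rfl | hij
      · rw [Matrix.one_apply_eq, Matrix.one_apply_eq, map_one, sub_self]
      · rw [Matrix.one_apply_ne hij, Matrix.one_apply_ne hij, map_zero, sub_self]
    have hv : p ∣ z.val := by
      rw [← ZMod.natCast_eq_zero_iff, ← map_natCast (red p hk), ZMod.natCast_zmod_val]
      exact hz0
    obtain ⟨c, hc⟩ := hv
    exact ⟨(c : ZMod (p ^ k)), by rw [← ZMod.natCast_zmod_val z, hc, Nat.cast_mul]⟩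
  choose A hA using hA
  have hxA : (x : Matrix (Fin n) (Fin n) (ZMod (p ^ k))) =
      Polynomial.aeval (Matrix.of A) (1 + (p : Polynomial (ZMod (p ^ k))) * Polynomial.X) := by
    rw [map_add, map_one, map_mul, map_natCast, Polynomial.aeval_X]
    ext i j
    have := hA i j
    rw [Matrix.sub_apply, sub_eq_iff_eq_add] at this
    rw [this, Matrix.add_apply, add_comm, ← Matrix.diagonal_natCast, Matrix.diagonal_mul, Matrix.of_apply]
  rw [Subgroup.coe_pow, Units.val_pow_eq_pow_val, hxA, ← map_pow]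
  have hd := dvd_sub_pow_of_dvd_sub (p := p)
    (a := 1 + (p : Polynomial (ZMod (p ^ k))) * Polynomial.X) (b := 1)
    (by rw [add_sub_cancel_left]; exact dvd_mul_right _ _) (k - 1)
  have hp0 : ((p : Polynomial (ZMod (p ^ k))) ^ (k - 1 + 1)) = 0 := by
    rw [Nat.sub_add_cancel hk, ← Nat.cast_pow, ← map_natCast (Polynomial.C), ZMod.natCast_self,
      map_zero]
  rw [hp0, zero_dvd_iff, sub_eq_zero, one_pow] at hd
  rw [hd, map_one]
  rfl

theorem surjective_map_red {k : ℕ} (hk : 1 ≤ k) :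
    Function.Surjective (Matrix.GeneralLinearGroup.map (n := Fin n) (red p hk)) := by
  have : NeZero (p ^ k) := ⟨pow_ne_zero _ (Fact.out : p.Prime).ne_zero⟩
  intro y
  have hs := red_surjective (p := p) hk
  let M : Matrix (Fin n) (Fin n) (ZMod (p ^ k)) :=
    (y : Matrix (Fin n) (Fin n) (ZMod p)).map (Function.surjInv hs)
  have hM : M.map (red p hk) = y := by
    ext i j; simp [M, Function.surjInv_eq hs]
  have hdet : IsUnit M.det := by
    have h1 : red p hk M.det = (y : Matrix (Fin n) (Fin n) (ZMod p)).det := by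
      rw [RingHom.map_det, RingHom.mapMatrix_apply, hM]
    have hloc : IsLocalHom (red p hk) := by
      constructor
      intro a ha
      rw [← ZMod.natCast_zmod_val a] at ha ⊢
      rw [map_natCast] at ha
      rw [ZMod.isUnit_iff_coprime] at ha ⊢
      exact ha.pow_right k
    exact isUnit_of_map_unit (red p hk) _ (h1 ▸ (Matrix.isUnit_iff_isUnit_det _).1 y.isUnit)
  exact ⟨Matrix.GeneralLinearGroup.mk'' M hdet, Units.ext hM⟩

variable {G : Type*} [Group G] [Finite G]

theorem exists_lift_level (hG : ¬ p ∣ Nat.card G) (φ : G →* GL (Fin n) (ZMod p)) {k : ℕ}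
    (hk : 1 ≤ k) : ∃ ψ : G →* GL (Fin n) (ZMod (p ^ k)),
      (Matrix.GeneralLinearGroup.map (red p hk)).comp ψ = φ := by
  have : NeZero (p ^ k) := ⟨pow_ne_zero _ (Fact.out : p.Prime).ne_zero⟩
  set m := Matrix.GeneralLinearGroup.map (n := Fin n) (red p hk) with hm
  let E : Subgroup (G × GL (Fin n) (ZMod (p ^ k))) :=
    MonoidHom.eqLocus (φ.comp (MonoidHom.fst _ _)) (m.comp (MonoidHom.snd _ _))
  let π : E →* G := (MonoidHom.fst _ _).comp E.subtype
  have hπ : Function.Surjective π := fun g => by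
    obtain ⟨y, hy⟩ := surjective_map_red (p := p) hk (φ g)
    exact ⟨⟨(g, y), hy.symm⟩, rfl⟩
  have hker : IsPGroup p π.ker := by
    let f : π.ker →* m.ker := (((MonoidHom.snd _ _).comp E.subtype).comp π.ker.subtype).codRestrict _
      fun e => by
        have h1 : φ (π e.1) = m (e.1.1.2) := e.1.2
        rw [e.2, map_one] at h1
        exact h1.symm
    refine IsPGroup.of_injective (isPGroup_ker hk) f fun a b h => ?_
    refine Subtype.ext (Subtype.ext (Prod.ext ?_ (congrArg Subtype.val h :)))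
    exact a.2.trans b.2.symm
  have hidx : π.ker.index = Nat.card G := by
    rw [Subgroup.index_ker, MonoidHom.range_eq_top.2 hπ, Subgroup.card_top]
  have hcop : Nat.Coprime (Nat.card π.ker) π.ker.index := by
    obtain ⟨a, ha⟩ := hker.exists_card_eq
    rw [ha, hidx]
    exact Nat.Coprime.pow_left _ ((Fact.out : p.Prime).coprime_iff_not_dvd.2 hG)
  obtain ⟨C, hC⟩ := Subgroup.exists_right_complement'_of_coprime hcop
  have hbij : Function.Bijective (π.comp C.subtype) := by
    constructor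
    · rw [← MonoidHom.ker_eq_bot_iff, eq_bot_iff]
      rintro c hc
      have : (c : E) ∈ π.ker ⊓ C := ⟨hc, c.2⟩
      rw [hC.disjoint.eq_bot, Subgroup.mem_bot] at this
      exact Subgroup.mem_bot.2 (Subtype.ext this)
    · intro g
      obtain ⟨e, rfl⟩ := hπ g
      obtain ⟨⟨a, c⟩, hac⟩ := hC.2 e
      refine ⟨c, ?_⟩
      have : π (a : E) = 1 := a.2
      rw [← hac]
      simp [this]
  let s := (MulEquiv.ofBijective _ hbij).symm.toMonoidHom
  refine ⟨(((MonoidHom.snd _ _).comp E.subtype).comp C.subtype).comp s, MonoidHom.ext fun g => ?_⟩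
  have h1 : φ ((s g : E).1.1) = m ((s g : E).1.2) := (s g : E).2
  have h2 : (s g : E).1.1 = g := (MulEquiv.ofBijective _ hbij).apply_symm_apply g
  rw [h2] at h1
  exact h1.symm

/-- A representation of a `p'`-group over `ZMod p` lifts to the `p`-adic integers. -/
theorem exists_lift (hG : ¬ p ∣ Nat.card G) (φ : G →* GL (Fin n) (ZMod p)) :
    ∃ ψ : G →* GL (Fin n) ℤ_[p],
      (Matrix.GeneralLinearGroup.map PadicInt.toZMod).comp ψ = φ := by
  let val : ((G → Fin n → Fin n → ℤ_[p])) → G → Matrix (Fin n) (Fin n) ℤ_[p] :=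
    fun f g => Matrix.of (f g)
  let A : Set (G → Fin n → Fin n → ℤ_[p]) :=
    {f | ∀ g i j, PadicInt.toZMod (f g i j) = (φ g : Matrix (Fin n) (Fin n) (ZMod p)) i j}
  let S : ℕ → Set (G → Fin n → Fin n → ℤ_[p]) := fun k => A ∩
    {f | ∀ g h i j, PadicInt.toZModPow k ((val f (g * h) - val f g * val f h) i j) = 0}
  have hdec : ∀ k, S (k + 1) ⊆ S k := fun k f hf => ⟨hf.1, fun g h i j => by
    rw [← PadicInt.zmod_cast_comp_toZModPow k (k + 1) k.le_succ, RingHom.comp_apply, hf.2 g h i j,
      map_zero]⟩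
  have hne : ∀ k, (S k).Nonempty := fun k => by
    obtain ⟨ψ, hψ⟩ := exists_lift_level hG φ (k := k + 1) (by omega)
    have hs := ZMod.ringHom_surjective (PadicInt.toZModPow (p := p) (k + 1))
    refine ⟨fun g i j => Function.surjInv hs ((ψ g : Matrix (Fin n) (Fin n) _) i j),
      hdec k ⟨fun g i j => ?_, fun g h i j => ?_⟩⟩
    · rw [← toZMod_eq_red_comp (k := k + 1) (by omega), Function.surjInv_eq hs, ← hψ]
      rfl
    · rw [Matrix.sub_apply, map_sub, Matrix.mul_apply, map_sum, sub_eq_zero]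
      simp only [val, Matrix.of_apply, map_mul, Function.surjInv_eq hs]
      rw [Units.val_mul, Matrix.mul_apply]
  have hclA : IsClosed A := by
    simp only [A, Set.ofPred_forall]
    refine isClosed_iInter fun g => isClosed_iInter fun i => isClosed_iInter fun j => ?_
    have : {f : G → Fin n → Fin n → ℤ_[p] | PadicInt.toZMod (f g i j) =
        (φ g : Matrix (Fin n) (Fin n) (ZMod p)) i j} = (fun f => f g i j) ⁻¹'
        (PadicInt.toZModPow 1 ⁻¹' {c | red p le_rfl c = (φ g : Matrix (Fin n) (Fin n) (ZMod p)) i j}) := by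
      ext f; exact (by rw [Set.mem_preimage, Set.mem_preimage]; show _ ↔ red p le_rfl _ = _; rw [toZMod_eq_red_comp]; rfl)
    rw [this]
    exact (isClosed_preimage_toZModPow 1 _).preimage (by fun_prop)
  have hcl : ∀ k, IsClosed (S k) := fun k => by
    refine hclA.inter ?_
    simp only [Set.ofPred_forall]
    refine isClosed_iInter fun g => isClosed_iInter fun h => isClosed_iInter fun i =>
      isClosed_iInter fun j => ?_
    exact (isClosed_preimage_toZModPow k {0}).preimage (by
      simp only [val, Matrix.sub_apply, Matrix.mul_apply, Matrix.of_apply]; fun_prop)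
  obtain ⟨f, hf⟩ := IsCompact.nonempty_iInter_of_sequence_nonempty_isCompact_isClosed S hdec hne
    (hcl 0).isCompact hcl
  rw [Set.mem_iInter] at hf
  have hmul : ∀ g h, val f (g * h) = val f g * val f h := fun g h => by
    ext i j
    refine PadicInt.ext_of_toZModPow.1 fun k => ?_
    rw [← sub_eq_zero, ← map_sub, ← Matrix.sub_apply]
    exact (hf k).2 g h i j
  have hred : ∀ g, (val f g).map PadicInt.toZMod = φ g := fun g => Matrix.ext ((hf 0).1 g)
  have hone : val f 1 = 1 := by
    have hu : IsUnit (val f 1).det := by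
      refine isUnit_of_map_unit (PadicInt.toZMod (p := p)) _ ?_
      rw [RingHom.map_det, RingHom.mapMatrix_apply, hred, map_one]
      simp
    have h := hmul 1 1
    rw [one_mul] at h
    obtain ⟨u, hu⟩ := (Matrix.isUnit_iff_isUnit_det _).2 hu
    rw [← hu] at h ⊢
    exact u.isUnit.mul_left_cancel (h.symm.trans (mul_one _).symm)
  let ψ : G →* GL (Fin n) ℤ_[p] :=
    (MonoidHom.mk ⟨val f, hone⟩ hmul : G →* Matrix (Fin n) (Fin n) ℤ_[p]).toHomUnits
  exact ⟨ψ, MonoidHom.ext fun g => Units.ext (hred g)⟩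

end Cfsg.Agent.SL3Geo60
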