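import Cfsg.Agent.SL3Geo34.Rel
import Cfsg.Agent.SL3Geo60.Lift

/-!
S5774 (5): the characteristic zero contradiction (helper60, for helper34).
-/

set_option autoImplicit false

namespace Cfsg.Agent.SL3Geo60

open Matrix Cfsg.Agent.SL3Geo34
open scoped MatrixGroups commutatorElement Classical

/-- The trace of a matrix of finite order is integral. -/
theorem isIntegral_trace_of_pow {K : Type*} [Field K] {n : Type*} [Fintype n] [DecidableEq n]
    {X : Matrix n n K} {N : ℕ} (hN : 0 < N) (hX : X ^ N = 1) : IsIntegral ℤ X.trace := by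
  let L := AlgebraicClosure K
  let ι : K →+* L := algebraMap K L
  refine (isIntegral_algebraMap_iff (R := ℤ) (B := L) ι.injective).1 ?_
  set Y := X.map ι with hY
  have hYN : Y ^ N = 1 := by
    rw [hY, ← RingHom.mapMatrix_apply, ← map_pow, hX, map_one]
  have ht : ι X.trace = Y.trace := AddMonoidHom.map_trace ι.toAddMonoidHom X
  show IsIntegral ℤ (ι X.trace)
  rw [ht, Matrix.trace_eq_sum_roots_charpoly]
  refine IsIntegral.multiset_sum fun μ hμ => ?_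
  have hroot := (Polynomial.mem_roots'.1 hμ).2
  rw [Polynomial.IsRoot, Matrix.eval_charpoly] at hroot
  obtain ⟨v, hv0, hv⟩ := Matrix.exists_mulVec_eq_zero_iff.2 hroot
  rw [Matrix.sub_mulVec, sub_eq_zero, Matrix.scalar_apply, ← Matrix.smul_one_eq_diagonal,
    Matrix.smul_mulVec, Matrix.one_mulVec] at hv
  have hpow : ∀ k : ℕ, (Y ^ k) *ᵥ v = μ ^ k • v := by
    intro k
    induction k with
    | zero => simp
    | succ k ih => rw [pow_succ, ← Matrix.mulVec_mulVec, ← hv, Matrix.mulVec_smul, ih, smul_smul, pow_succ']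
  have h1 := hpow N
  rw [hYN, Matrix.one_mulVec] at h1
  have hμN : μ ^ N = 1 := by
    obtain ⟨i, hi⟩ := Function.ne_iff.1 hv0
    have := congrFun h1 i
    simp only [Pi.smul_apply, smul_eq_mul] at this
    exact (mul_right_cancel₀ hi (by rw [one_mul]; exact this.symm))
  exact IsIntegral.of_pow hN (hμN ▸ isIntegral_one)

/-- An element integral over `ℤ` which is rational is an integer. -/
theorem int_of_isIntegral {K : Type*} [Field K] [CharZero K] {x : K} (hx : IsIntegral ℤ x)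
    {a b : ℤ} (hb : b ≠ 0) (h : (b : K) * x = a) : b ∣ a := by
  have hq : x = algebraMap ℚ K ((a : ℚ) / b) := by
    rw [map_div₀, map_intCast, map_intCast, eq_div_iff (Int.cast_ne_zero.2 hb), mul_comm, h]
  rw [hq, isIntegral_algebraMap_iff (algebraMap ℚ K).injective,
    IsIntegrallyClosed.isIntegral_iff] at hx
  obtain ⟨n, hn⟩ := hx
  refine ⟨n, ?_⟩
  rw [algebraMap_int_eq, eq_intCast, eq_div_iff (Int.cast_ne_zero.2 hb)] at hn
  exact_mod_cast (by rw [← hn]; ring : (a : ℚ) = b * n)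

section Std

variable {p : ℕ} [Fact p.Prime]

theorem exists_root (hp3 : (3 : ZMod p) ≠ 0) {w : ZMod p} (hw : w ^ 2 + w + 1 = 0) :
    ∃ z : ℤ_[p], z ^ 2 + z + 1 = 0 ∧ PadicInt.toZMod z = w := by
  obtain ⟨a, rfl⟩ := ZMod.ringHom_surjective (PadicInt.toZMod (p := p)) w
  have hlt : ∀ x : ℤ_[p], ‖x‖ < 1 ↔ PadicInt.toZMod x = 0 := fun x => by
    rw [← RingHom.mem_ker, PadicInt.ker_toZMod, PadicInt.maximalIdeal_eq_span_p,
      Ideal.mem_span_singleton, PadicInt.norm_lt_one_iff_dvd]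
  set f : Polynomial ℤ_[p] := Polynomial.X ^ 2 + Polynomial.X + 1 with hf
  have hd : ‖f.derivative.aeval a‖ = 1 := by
    refine le_antisymm (PadicInt.norm_le_one _) (le_of_not_gt fun h => ?_)
    rw [hlt] at h
    simp [hf] at h
    refine hp3 ?_
    linear_combination 4 * hw - (2 * PadicInt.toZMod a + 1) * h
  have hfa : ‖f.aeval a‖ < ‖f.derivative.aeval a‖ ^ 2 := by
    rw [hd, one_pow, hlt]
    simp [hf, hw]
  obtain ⟨z, hz, hza, -⟩ := hensels_lemma (F := f) (a := a) hfa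
  refine ⟨z, by simpa [hf] using hz, ?_⟩
  rw [hd, hlt, map_sub, sub_eq_zero] at hza
  exact hza

variable {G : Type*} [Group G] [Finite G]

/-- A lift of a representation containing the standard pair, in standard form. -/
theorem exists_std (hG : ¬ p ∣ Nat.card G) (φ : G →* GL (Fin 3) (ZMod p)) {w : ZMod p}
    (h : CubeRoot w) {a b : G} (ha : φ a = h.gA) (hb : φ b = gB) (ha3 : a ^ 3 = 1)
    (hb3 : b ^ 3 = 1) (hw3 : ⁅a, b⁆ ^ 3 = 1) :
    ∃ (z : ℚ_[p]) (h' : CubeRoot z) (ψ : G →* GL (Fin 3) ℚ_[p]),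
      (ψ a : Matrix (Fin 3) (Fin 3) ℚ_[p]) = stA z ∧
      (ψ b : Matrix (Fin 3) (Fin 3) ℚ_[p]) = stB ∧
      (ψ ⁅a, b⁆ : Matrix (Fin 3) (Fin 3) ℚ_[p]) = z • 1 ∧
      ∀ g i j, ∃ x : ℤ_[p], ((x : ℚ_[p]) = (ψ g : Matrix (Fin 3) (Fin 3) ℚ_[p]) i j) ∧
        PadicInt.toZMod x = (φ g : Matrix (Fin 3) (Fin 3) (ZMod p)) i j := by
  obtain ⟨Ψ, hΨ⟩ := exists_lift hG φ
  obtain ⟨z, hz, hzw⟩ := exists_root h.three h.rel
  set A : Matrix (Fin 3) (Fin 3) ℤ_[p] := ((Ψ a : GL (Fin 3) ℤ_[p]) : Matrix (Fin 3) (Fin 3) ℤ_[p]) with hA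
  set B : Matrix (Fin 3) (Fin 3) ℤ_[p] := ((Ψ b : GL (Fin 3) ℤ_[p]) : Matrix (Fin 3) (Fin 3) ℤ_[p]) with hB
  set W : Matrix (Fin 3) (Fin 3) ℤ_[p] :=
    ((Ψ ⁅a, b⁆ : GL (Fin 3) ℤ_[p]) : Matrix (Fin 3) (Fin 3) ℤ_[p]) with hW
  have hred : ∀ g : G, ((Ψ g : GL (Fin 3) ℤ_[p]) : Matrix (Fin 3) (Fin 3) ℤ_[p]).map PadicInt.toZMod =
      (φ g : Matrix (Fin 3) (Fin 3) (ZMod p)) := fun g =>
    congrArg (fun f : G →* GL (Fin 3) (ZMod p) => (f g : Matrix (Fin 3) (Fin 3) (ZMod p))) hΨ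
  have hAr : A.map PadicInt.toZMod = stA w := by rw [hred, ha, h.gA_val]
  have hBr : B.map PadicInt.toZMod = stB := by rw [hred, hb, gB_val]
  have hWr : W.map PadicInt.toZMod = w • 1 := by
    rw [hred, map_commutatorElement, ha, hb]; exact h.gW_val
  have hu3 : IsUnit (3 : ℤ_[p]) :=
    isUnit_of_map_unit (PadicInt.toZMod (p := p)) _ (by rw [map_ofNat]; exact (isUnit_iff_ne_zero.2 h.three))
  have hunit : ∀ M : Matrix (Fin 3) (Fin 3) ℤ_[p],
      (M.map PadicInt.toZMod).det ≠ 0 → IsUnit M := fun M hM => by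
    refine (Matrix.isUnit_iff_isUnit_det _).2 (isUnit_of_map_unit (PadicInt.toZMod (p := p)) _ ?_)
    rw [RingHom.map_det, RingHom.mapMatrix_apply]
    exact isUnit_iff_ne_zero.2 hM
  -- the commutator is scalar
  have hz3 : z ^ 3 = 1 := by linear_combination (z - 1) * hz
  have hW3 : W ^ 3 = 1 := by rw [hW, ← Units.val_pow_eq_pow_val, ← map_pow, hw3, map_one, Units.val_one]
  have hWs : W = z • 1 := by
    set X := z ^ 2 • W with hX
    have hX3 : X ^ 3 = 1 := by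
      rw [hX, _root_.smul_pow, hW3, ← pow_mul, show (2 * 3) = 3 * 2 from rfl, pow_mul, hz3, one_pow,
        one_smul]
    have hXr : X.map PadicInt.toZMod = 1 := by
      rw [hX, Matrix.map_smul' _ _ _ (map_mul _), hWr, map_pow, hzw, smul_smul, ← pow_succ, h.cube,
        one_smul]
    have hS : IsUnit (X ^ 2 + X + 1) := hunit _ (by
      rw [← RingHom.mapMatrix_apply, map_add, map_add, map_pow, map_one, RingHom.mapMatrix_apply, hXr,
        one_pow, show (1 + 1 + 1 : Matrix (Fin 3) (Fin 3) (ZMod p)) = (3 : ZMod p) • 1 by module,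
        Matrix.det_smul, Matrix.det_one, mul_one]
      exact pow_ne_zero _ h.three)
    have h0 : X - 1 = 0 := hS.mul_left_cancel (by
      rw [mul_zero]
      have : (X ^ 2 + X + 1) * (X - 1) = X ^ 3 - 1 := by noncomm_ring
      rw [this, hX3, sub_self])
    rw [sub_eq_zero] at h0
    have := congrArg (fun M : Matrix (Fin 3) (Fin 3) ℤ_[p] => z • M) h0
    simp only [hX, smul_smul] at this
    rwa [← pow_succ', hz3, one_smul] at this
  have hA3 : A ^ 3 = 1 := by rw [hA, ← Units.val_pow_eq_pow_val, ← map_pow, ha3, map_one, Units.val_one]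
  have hB3 : B ^ 3 = 1 := by rw [hB, ← Units.val_pow_eq_pow_val, ← map_pow, hb3, map_one, Units.val_one]
  have hAB : A * B = z • (B * A) := by
    have e : a * b = ⁅a, b⁆ * (b * a) := by rw [commutatorElement_def]; group
    have := congrArg (fun g : G => ((Ψ g : GL (Fin 3) ℤ_[p]) : Matrix (Fin 3) (Fin 3) ℤ_[p])) e
    simp only [map_mul, Units.val_mul] at this
    rw [this, ← hW, hWs, Matrix.smul_mul, one_mul]
  -- the basis
  obtain ⟨v, hv⟩ : ∃ v : Fin 3 → ℤ_[p],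
      v = ((hu3.unit⁻¹ : ℤ_[p]ˣ) : ℤ_[p]) • ((1 + A + A ^ 2) *ᵥ Pi.single 0 1) := ⟨_, rfl⟩
  have hAv : A *ᵥ v = v := by
    rw [hv, Matrix.mulVec_smul, Matrix.mulVec_mulVec, mul_add, mul_add, mul_one, ← sq, ← pow_succ', hA3]
    congr 2
    abel
  let T : Matrix (Fin 3) (Fin 3) ℤ_[p] := Matrix.of fun i j => ((B ^ (j : ℕ)) *ᵥ v) i
  have hTcol : ∀ j, T *ᵥ Pi.single j 1 = (B ^ (j : ℕ)) *ᵥ v := fun j => by ext i; simp [T]
  have hvr : ∀ i, PadicInt.toZMod (v i) = (Pi.single 0 1 : Fin 3 → ZMod p) i := by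
    intro i
    have hs : ((1 + stA w + stA w ^ 2) *ᵥ Pi.single 0 1 : Fin 3 → ZMod p) i =
        3 * (Pi.single 0 1 : Fin 3 → ZMod p) i := by
      fin_cases i <;>
        simp [stA, sq, Matrix.mul_apply, Fin.sum_univ_three, Matrix.one_apply] <;> ring
    have e : PadicInt.toZMod (((1 + A + A ^ 2) *ᵥ Pi.single 0 1) i) =
        ((1 + stA w + stA w ^ 2) *ᵥ Pi.single 0 1 : Fin 3 → ZMod p) i := by
      rw [Matrix.mulVec_single_one, Matrix.mulVec_single_one, ← hAr, ← RingHom.mapMatrix_apply,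
        ← map_pow, ← map_one (PadicInt.toZMod (p := p)).mapMatrix, ← map_add, ← map_add]
      rfl
    rw [hv, Pi.smul_apply, smul_eq_mul, map_mul, e, hs, ← mul_assoc]
    have : PadicInt.toZMod ((hu3.unit⁻¹ : ℤ_[p]ˣ) : ℤ_[p]) * (3 : ZMod p) = 1 := by
      rw [← map_ofNat (PadicInt.toZMod (p := p)) 3, ← map_mul, IsUnit.val_inv_mul, map_one]
    rw [this, one_mul]
  have hTr : T.map PadicInt.toZMod = 1 := by
    ext i j
    have e : PadicInt.toZMod (((B ^ (j : ℕ)) *ᵥ v) i) =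
        ((stB : Matrix (Fin 3) (Fin 3) (ZMod p)) ^ (j : ℕ) *ᵥ Pi.single 0 1) i := by
      rw [RingHom.map_mulVec, show PadicInt.toZMod ∘ v = Pi.single 0 1 from funext hvr, ← hBr,
        Matrix.map_pow]
    show PadicInt.toZMod (((B ^ (j : ℕ)) *ᵥ v) i) = _
    rw [e]
    fin_cases j <;> fin_cases i <;>
      simp [stB, sq, Matrix.mul_apply, Fin.sum_univ_three, Matrix.one_apply]
  have hTu : IsUnit T := hunit T (by rw [hTr, Matrix.det_one]; exact one_ne_zero)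
  set P : GL (Fin 3) ℤ_[p] := hTu.unit with hP
  have hPT : (P : Matrix (Fin 3) (Fin 3) ℤ_[p]) = T := rfl
  -- standard matrices over the integers
  set A₀ : Matrix (Fin 3) (Fin 3) ℤ_[p] := !![1, 0, 0; 0, z, 0; 0, 0, z ^ 2] with hA₀
  set B₀ : Matrix (Fin 3) (Fin 3) ℤ_[p] := !![0, 0, 1; 1, 0, 0; 0, 1, 0] with hB₀
  have hAT : A * T = T * A₀ := by
    refine Matrix.ext_of_mulVec_single fun j => ?_
    rw [← Matrix.mulVec_mulVec, ← Matrix.mulVec_mulVec, hTcol]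
    have he : A₀ *ᵥ Pi.single j 1 = z ^ (j : ℕ) • Pi.single j 1 := by
      ext i; fin_cases j <;> fin_cases i <;> simp [A₀]
    rw [he, Matrix.mulVec_smul, hTcol]
    have key : ∀ k : ℕ, A *ᵥ ((B ^ k) *ᵥ v) = z ^ k • ((B ^ k) *ᵥ v) := by
      intro k
      induction k with
      | zero => simp [hAv]
      | succ k ih =>
        rw [pow_succ', ← Matrix.mulVec_mulVec, Matrix.mulVec_mulVec _ A B, hAB, Matrix.smul_mulVec,
          ← Matrix.mulVec_mulVec, ih, Matrix.mulVec_smul, smul_smul, pow_succ']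
    exact key j
  have hBT : B * T = T * B₀ := by
    refine Matrix.ext_of_mulVec_single fun j => ?_
    rw [← Matrix.mulVec_mulVec, ← Matrix.mulVec_mulVec, hTcol]
    have he : B₀ *ᵥ Pi.single j 1 = Pi.single (j + 1) (1 : ℤ_[p]) := by
      ext i; fin_cases j <;> fin_cases i <;> simp [B₀]
    rw [he, hTcol, Matrix.mulVec_mulVec, ← pow_succ']
    fin_cases j <;> simp [hB3]
  -- the conjugated lift
  let ψ₀ : G →* GL (Fin 3) ℤ_[p] := (MulAut.conj P⁻¹).toMonoidHom.comp Ψ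
  have hψ₀ : ∀ g, ((ψ₀ g : GL (Fin 3) ℤ_[p]) : Matrix (Fin 3) (Fin 3) ℤ_[p]) =
      ((P⁻¹ : GL (Fin 3) ℤ_[p]) : Matrix (Fin 3) (Fin 3) ℤ_[p]) *
        ((Ψ g : GL (Fin 3) ℤ_[p]) : Matrix (Fin 3) (Fin 3) ℤ_[p]) * T := fun g => by
    simp [ψ₀, hPT]
  have hPr : ((P⁻¹ : GL (Fin 3) ℤ_[p]) : Matrix (Fin 3) (Fin 3) ℤ_[p]).map PadicInt.toZMod = 1 := by
    have := congrArg (fun M : Matrix (Fin 3) (Fin 3) ℤ_[p] => M.map PadicInt.toZMod) P.inv_mul
    simp only [Matrix.map_mul, hPT, hTr, mul_one] at this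
    rw [this, Matrix.map_one _ (map_zero _) (map_one _)]
  let ι : ℤ_[p] →+* ℚ_[p] := PadicInt.Coe.ringHom
  let ψ : G →* GL (Fin 3) ℚ_[p] := (Matrix.GeneralLinearGroup.map ι).comp ψ₀
  have hψ : ∀ g, ((ψ g : GL (Fin 3) ℚ_[p]) : Matrix (Fin 3) (Fin 3) ℚ_[p]) =
      ((ψ₀ g : GL (Fin 3) ℤ_[p]) : Matrix (Fin 3) (Fin 3) ℤ_[p]).map ι := fun g => rfl
  have hz' : (z : ℚ_[p]) ^ 2 + (z : ℚ_[p]) + 1 = 0 := by exact_mod_cast congrArg ι hz
  refine ⟨(z : ℚ_[p]), ⟨hz', by norm_num⟩, ψ, ?_, ?_, ?_, fun g i j => ?_⟩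
  · rw [hψ, hψ₀, ← hA, mul_assoc, hAT, ← mul_assoc, ← hPT, Units.inv_mul, one_mul]
    ext i j; fin_cases i <;> fin_cases j <;> simp [A₀, stA, ι] <;> rfl
  · rw [hψ, hψ₀, ← hB, mul_assoc, hBT, ← mul_assoc, ← hPT, Units.inv_mul, one_mul]
    ext i j; fin_cases i <;> fin_cases j <;> simp [B₀, stB, ι]
  · rw [hψ, hψ₀, ← hW, hWs, Matrix.mul_smul, mul_one, Matrix.smul_mul, ← hPT, Units.inv_mul]
    ext i j; fin_cases i <;> fin_cases j <;> simp [ι, Matrix.one_apply] <;> rfl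
  · refine ⟨((ψ₀ g : GL (Fin 3) ℤ_[p]) : Matrix (Fin 3) (Fin 3) ℤ_[p]) i j, rfl, ?_⟩
    have := congrArg (fun M : Matrix (Fin 3) (Fin 3) ℤ_[p] => M.map PadicInt.toZMod) (hψ₀ g)
    simp only [Matrix.map_mul, hPr, hTr, hred, one_mul, mul_one] at this
    exact congrFun (congrFun this i) j

end Std

section Main

variable {F : Type*} [Field F] [Fintype F]

/-- The representation over the `p`-adic field. -/
theorem exists_setup {p : ℕ} [Fact p.Prime] (hF : Fintype.card F = p) (hp2 : p ≠ 2) {ω : F}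
    (h : CubeRoot ω) {M : Subgroup (GL (Fin 3) F)} (hM : ¬ p ∣ Nat.card M) (hA : h.gA ∈ M)
    (hB : gB ∈ M) (hZ : gZ ∈ M) (hQ : ∀ k, h.gQ k ∈ M) :
    ∃ (z : ℚ_[p]) (_ : CubeRoot z) (ψ : M →* GL (Fin 3) ℚ_[p]),
      ((ψ ⟨h.gA, hA⟩ : Matrix (Fin 3) (Fin 3) ℚ_[p]) = stA z) ∧
      ((ψ ⟨gB, hB⟩ : Matrix (Fin 3) (Fin 3) ℚ_[p]) = stB) ∧
      ((ψ ⟨gZ, hZ⟩ : Matrix (Fin 3) (Fin 3) ℚ_[p]) = -stS) ∧
      ∀ k, ∃ c : ℚ_[p], 3 * c ^ 2 = -1 ∧
        (ψ ⟨h.gQ k, hQ k⟩ : Matrix (Fin 3) (Fin 3) ℚ_[p]) = c • stPhi z k := by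
  have : Finite M := inferInstance
  set e : F →+* ZMod p := ((ZMod.ringEquivOfPrime F Fact.out hF).symm : F →+* ZMod p) with he
  set φ : M →* GL (Fin 3) (ZMod p) := (GeneralLinearGroup.map e).comp M.subtype with hφ
  have hw : CubeRoot (e ω) := ⟨by rw [← map_pow, ← map_add, ← map_one e, ← map_add, h.rel, map_zero],
    fun h0 => h.three (e.injective (by rw [map_ofNat, map_zero, h0]))⟩
  set a : M := ⟨h.gA, hA⟩ with ha
  set b : M := ⟨gB, hB⟩ with hb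
  set s : M := ⟨gZ, hZ⟩ with hs
  obtain ⟨z, hz, ψ, hψa, hψb, hψw, hred⟩ := exists_std hM φ hw (a := a) (b := b)
    (by refine Units.ext (Matrix.ext fun i j => ?_)
        fin_cases i <;> fin_cases j <;> simp [hφ, ha, CubeRoot.gA_val, stA])
    (by refine Units.ext (Matrix.ext fun i j => ?_)
        fin_cases i <;> fin_cases j <;> simp [hφ, hb, gB_val, stB])
    (Subtype.ext h.gA_cube) (Subtype.ext gB_cube) (Subtype.ext h.gW_cube)
  have hs2 : s * s = 1 := Subtype.ext gZ_sq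
  have conj : ∀ {u v : M}, s * u * s = v → s * u = v * s := fun {u v} huv => by
    rw [← huv, mul_assoc (s * u), hs2, mul_one]
  have hsa : s * a * s = a ^ 2 := Subtype.ext (Units.ext (by
    simp [hs, ha, gZ_val, CubeRoot.gA_val, h.rel_SA]))
  have hsb : s * b * s = b ^ 2 := Subtype.ext (Units.ext (by
    simp [hs, hb, gZ_val, gB_val, rel_SB]))
  obtain ⟨d, hd⟩ := hz.eq_smul_stS (X := (ψ s : Matrix (Fin 3) (Fin 3) ℚ_[p]))
    (by rw [← hψa, ← Units.val_mul, ← map_mul, conj hsa]; simp)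
    (by rw [← hψb, ← Units.val_mul, ← map_mul, conj hsb]; simp)
  have hd2 : d ^ 2 = 1 := by
    have := congrArg (fun u : M => (ψ u : Matrix (Fin 3) (Fin 3) ℚ_[p]) 0 0) hs2
    simpa [hd, Matrix.smul_mul, Matrix.mul_smul, sq_S, smul_smul, sq] using this
  have hψs : (ψ s : Matrix (Fin 3) (Fin 3) ℚ_[p]) = -stS := by
    rcases sq_eq_one_iff.1 hd2 with rfl | rfl
    · obtain ⟨x, hx, hxr⟩ := hred s 0 0
      have h1 : (φ s : Matrix (Fin 3) (Fin 3) (ZMod p)) 0 0 = -1 := by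
        simp [hφ, hs, gZ_val, stS]
      have h2 : x = 1 := PadicInt.ext (by rw [hx, hd]; simp [stS])
      rw [h2, map_one, h1] at hxr
      have : Fact (2 < p) := ⟨lt_of_le_of_ne (Fact.out (p := p.Prime)).two_le (Ne.symm hp2)⟩
      exact absurd hxr.symm ZMod.neg_one_ne_one
    · rw [hd, neg_one_smul]
  refine ⟨z, hz, ψ, hψa, hψb, hψs, fun k => ?_⟩
  set q : M := ⟨h.gQ k, hQ k⟩ with hq
  have hqa : q * a = ⁅a, b⁆ ^ (k : ℕ) * b ^ 2 * a ^ (k : ℕ) * q := Subtype.ext (h.gQ_A k)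
  have hqb : q * b = ⁅a, b⁆ ^ (expB k).1 * b ^ (expB k).2.1 * a ^ (expB k).2.2 * q :=
    Subtype.ext (h.gQ_B k)
  obtain ⟨c, hc⟩ := hz.eq_smul_stPhi k (X := (ψ q : Matrix (Fin 3) (Fin 3) ℚ_[p]))
    (by
      rw [← hψa, ← Units.val_mul, ← map_mul, hqa]
      simp only [map_mul, map_pow, Units.val_mul, Units.val_pow_eq_pow_val, hψa, hψb, hψw,
        _root_.smul_pow, one_pow, Matrix.smul_mul, one_mul])
    (by
      rw [← hψb, ← Units.val_mul, ← map_mul, hqb]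
      simp only [map_mul, map_pow, Units.val_mul, Units.val_pow_eq_pow_val, hψa, hψb, hψw,
        _root_.smul_pow, one_pow, Matrix.smul_mul, one_mul])
  refine ⟨c, ?_, hc⟩
  have hq2 : q * q = s := Subtype.ext (h.gQ_sq k)
  have := congrArg (fun u : M => (ψ u : Matrix (Fin 3) (Fin 3) ℚ_[p]) 0 0) hq2
  simp only [map_mul, Units.val_mul, hc, hψs, Matrix.smul_mul, Matrix.mul_smul, smul_smul,
    hz.phi_sq] at this
  simp [stS] at this
  linear_combination this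

/-- Three times an entry of `ψ` is a sum of traces. -/
theorem isIntegral_three_mul {K : Type*} [Field K] {G : Type*} [Group G] [Finite G] {z : K}
    (hz : CubeRoot z) (ψ : G →* GL (Fin 3) K) {a b : G}
    (ha : (ψ a : Matrix (Fin 3) (Fin 3) K) = stA z) (hb : (ψ b : Matrix (Fin 3) (Fin 3) K) = stB)
    (g : G) :
    IsIntegral ℤ (3 * (ψ g : Matrix (Fin 3) (Fin 3) K) 0 1) ∧
      IsIntegral ℤ (3 * (ψ g : Matrix (Fin 3) (Fin 3) K) 1 1) := by
  have ht : ∀ u : G, IsIntegral ℤ (3 * (ψ u : Matrix (Fin 3) (Fin 3) K) 0 0) := fun u => by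
    have htr : ∀ v : G, IsIntegral ℤ (ψ v : Matrix (Fin 3) (Fin 3) K).trace := fun v =>
      isIntegral_trace_of_pow (orderOf_pos v)
        (by rw [← Units.val_pow_eq_pow_val, ← map_pow, pow_orderOf_eq_one, map_one, Units.val_one])
    have e : 3 * (ψ u : Matrix (Fin 3) (Fin 3) K) 0 0 =
        (ψ u : Matrix (Fin 3) (Fin 3) K).trace + (ψ (u * a) : Matrix (Fin 3) (Fin 3) K).trace +
          (ψ (u * (a * a)) : Matrix (Fin 3) (Fin 3) K).trace := by
      simp only [map_mul, Units.val_mul, ha]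
      simp [Matrix.trace, Fin.sum_univ_three, Matrix.mul_apply, stA]
      linear_combination
        -((ψ u : Matrix (Fin 3) (Fin 3) K) 1 1 + (ψ u : Matrix (Fin 3) (Fin 3) K) 2 2) * hz.rel -
          ((ψ u : Matrix (Fin 3) (Fin 3) K) 2 2 * z) * hz.cube
    rw [e]
    exact ((htr _).add (htr _)).add (htr _)
  constructor
  · convert ht (g * b) using 2
    simp [hb, stB, Matrix.mul_apply, Fin.sum_univ_three]
  · convert ht (b * b * g * b) using 2
    simp [hb, stB, Matrix.mul_apply, Matrix.vecMul, dotProduct, Fin.sum_univ_three]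

theorem false_pauli {p : ℕ} (hp : p.Prime) (hF : Fintype.card F = p) (hp2 : p ≠ 2) {ω : F}
    (h : CubeRoot ω) {M : Subgroup (GL (Fin 3) F)} (hM : ¬ p ∣ Nat.card M) (hA : h.gA ∈ M)
    (hB : gB ∈ M) (hQ : ∀ k, h.gQ k ∈ M) {y : GL (Fin 3) F} (hy : y ∈ M)
    (h0 : y * h.gQ 0 = h.gQ 0 * y) (h1 : y * h.gQ 1 = h.gQ 1 * y) (h2 : y * y = gZ) : False := by
  have := Fact.mk hp
  obtain ⟨z, hz, ψ, ha, hb, hs, hq⟩ :=
    exists_setup hF hp2 h hM hA hB (h2 ▸ M.mul_mem hy hy) hQ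
  set Y : M := ⟨y, hy⟩ with hY
  have hne : ∀ {c : ℚ_[p]}, 3 * c ^ 2 = -1 → c ≠ 0 := fun {c} hc h0 => by simp [h0] at hc
  have hcomm : ∀ k, y * h.gQ k = h.gQ k * y →
      (ψ Y : Matrix (Fin 3) (Fin 3) ℚ_[p]) * stPhi z k =
        stPhi z k * (ψ Y : Matrix (Fin 3) (Fin 3) ℚ_[p]) := fun k hk => by
    obtain ⟨c, hc, hc'⟩ := hq k
    have := congrArg (fun u : M => (ψ u : Matrix (Fin 3) (Fin 3) ℚ_[p]))
      (show Y * ⟨h.gQ k, hQ k⟩ = ⟨h.gQ k, hQ k⟩ * Y from Subtype.ext hk)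
    simp only [map_mul, Units.val_mul, hc', Matrix.smul_mul, Matrix.mul_smul] at this
    exact smul_right_injective _ (hne hc) this
  have hsq : (ψ Y : Matrix (Fin 3) (Fin 3) ℚ_[p]) * (ψ Y : Matrix (Fin 3) (Fin 3) ℚ_[p]) = -stS := by
    rw [← hs, ← Units.val_mul, ← map_mul]
    exact congrArg (fun u : M => (ψ u : Matrix (Fin 3) (Fin 3) ℚ_[p])) (Subtype.ext h2)
  have hS : (ψ Y : Matrix (Fin 3) (Fin 3) ℚ_[p]) * stS = stS * (ψ Y : Matrix (Fin 3) (Fin 3) ℚ_[p]) :=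
    neg_injective (by rw [← mul_neg, ← neg_mul, ← hsq, mul_assoc])
  have key := hz.pauli hS (hcomm 0 h0) (hcomm 1 h1) hsq
  have hd : (4 : ℤ) ∣ -81 := int_of_isIntegral
    ((isIntegral_three_mul hz ψ ha hb Y).2.pow 4) (by norm_num) (by push_cast; linear_combination 81 * key)
  norm_num at hd

theorem false_quarter {p : ℕ} (hp : p.Prime) (hF : Fintype.card F = p) (hp2 : p ≠ 2) {ω : F}
    (h : CubeRoot ω) {M : Subgroup (GL (Fin 3) F)} (hM : ¬ p ∣ Nat.card M) (hA : h.gA ∈ M)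
    (hB : gB ∈ M) (hQ : ∀ k, h.gQ k ∈ M) {y : GL (Fin 3) F} (hy : y ∈ M) (k : Fin 3)
    (hk : y * h.gQ k = h.gQ k * y) (h2 : y * y = h.gQ k) : False := by
  have := Fact.mk hp
  obtain ⟨z, hz, ψ, ha, hb, hs, hq⟩ :=
    exists_setup hF hp2 h hM hA hB (h.gQ_sq k ▸ M.mul_mem (hQ k) (hQ k)) hQ
  set Y : M := ⟨y, hy⟩ with hY
  obtain ⟨c, hc, hc'⟩ := hq k
  have hc0 : c ≠ 0 := fun h0 => by simp [h0] at hc
  have hsq : (ψ Y : Matrix (Fin 3) (Fin 3) ℚ_[p]) * (ψ Y : Matrix (Fin 3) (Fin 3) ℚ_[p]) =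
      c • stPhi z k := by
    rw [← hc', ← Units.val_mul, ← map_mul]
    exact congrArg (fun u : M => (ψ u : Matrix (Fin 3) (Fin 3) ℚ_[p])) (Subtype.ext h2)
  have hcomm : (ψ Y : Matrix (Fin 3) (Fin 3) ℚ_[p]) * stPhi z k =
      stPhi z k * (ψ Y : Matrix (Fin 3) (Fin 3) ℚ_[p]) :=
    smul_right_injective _ hc0 (by
      show c • _ = c • _
      rw [← Matrix.mul_smul, ← Matrix.smul_mul, ← hsq, mul_assoc])
  have hS : (ψ Y : Matrix (Fin 3) (Fin 3) ℚ_[p]) * stS = stS * (ψ Y : Matrix (Fin 3) (Fin 3) ℚ_[p]) := by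
    refine smul_right_injective _ (three_ne_zero (α := ℚ_[p])) ?_
    show (3 : ℚ_[p]) • _ = (3 : ℚ_[p]) • _
    rw [← Matrix.mul_smul, ← Matrix.smul_mul, ← hz.phi_sq k, ← mul_assoc, hcomm, mul_assoc, hcomm, mul_assoc]
  have key := hz.dcase k hS hcomm hc hsq
  have hd : (64 : ℤ) ∣ 729 := int_of_isIntegral
    ((isIntegral_three_mul hz ψ ha hb Y).1.pow 12) (by norm_num) (by push_cast; exact key)
  norm_num at hd

end Main

end Cfsg.Agent.SL3Geo60
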