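import Cfsg.Agent.MaxSub.SubfieldMax.SL2

/-!
`SL₂(2^r)`, `r` odd: a four-group of upper transvections and a lower transvection.
-/

set_option autoImplicit false

namespace Cfsg.Agent.SL3Geo60

open Matrix OnePoint Cfsg.Agent.MaxSub.SubfieldMax
open scoped MatrixGroups Classical
open Cfsg.Agent.PLocalB (upper lower)
open Cfsg.Agent.Dickson (PSL2)

attribute [local instance] Cfsg.Agent.PLocalB.lineAction Cfsg.Agent.Dickson.pslLine

variable {F : Type*} [Field F]

/-- Elements of order dividing four square to one in characteristic two. -/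
theorem sq_eq_one_of_pow_four [CharP F 2] {A : SL(2, F)} (h : A ^ 4 = 1) : A ^ 2 = 1 := by
  have hd := PLocalB.det_entries A
  have h2 : (2 : F) = 0 := CharTwo.two_eq_zero
  set t := A 0 0 + A 1 1 with ht
  have hA2 : (A.1 * A.1) = t • A.1 + 1 := by
    ext i j
    fin_cases i <;> fin_cases j <;>
      simp [Matrix.mul_apply, Fin.sum_univ_two, ht] <;>
      first
        | ring1
        | linear_combination (-1 : F) * hd - h2
  have h4 : (A.1 * A.1) * (A.1 * A.1) = 1 := by
    have := congrArg Subtype.val h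
    simpa [pow_succ, Matrix.mul_assoc] using this
  have hs : (t * t) • (A.1 * A.1) = 0 := by
    have e : (A.1 * A.1) * (A.1 * A.1) =
        (t * t) • (A.1 * A.1) + ((2 : F) * t) • A.1 + 1 := by
      conv_lhs => rw [hA2]
      rw [add_mul, mul_add, mul_add, smul_mul_smul_comm, one_mul, mul_one, one_mul]
      module
    rw [h4, h2, zero_mul, zero_smul, add_zero] at e
    simpa using e.symm
  have ht0 : t = 0 := by
    by_contra h0
    have := congrArg Matrix.det hs
    rw [Matrix.det_smul, Matrix.det_mul, Matrix.SpecialLinearGroup.det_coe] at this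
    simp [h0] at this
  apply Subtype.ext
  have : (A ^ 2 : SL(2, F)).1 = A.1 * A.1 := by simp [sq]
  rw [this, hA2, ht0, zero_smul, zero_add]
  rfl

theorem sl2_full_four [Fintype F] [CharP F 2] {r : ℕ} (hr : Odd r) (hq : Nat.card F = 2 ^ r)
    (F₀ : Subfield F)
    (htop : ∀ T : Subfield F, F₀ ≤ T → T = F₀ ∨ T = ⊤) (H : Subgroup SL(2, F))
    (U : AddSubgroup F) (hU : ∀ s ∈ U, upper s ∈ H) (hsmul : ∀ c ∈ F₀, ∀ s ∈ U, c * s ∈ U)
    (h4 : Nat.card U = 4) {a : F} (hl : lower a ∈ H)
    (hnr : ∃ s ∈ U, a * s ∉ F₀) : ∀ A : SL(2, F), A ∈ H ∨ -A ∈ H := by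
  obtain ⟨s₀, hs₀, has₀⟩ := hnr
  have ha0 : a ≠ 0 := fun h => has₀ (by rw [h, zero_mul]; exact zero_mem _)
  have hs0 : s₀ ≠ 0 := fun h => has₀ (by rw [h, mul_zero]; exact zero_mem _)
  haveI : Fact (Nat.Prime 2) := ⟨Nat.prime_two⟩
  have hneg : ∀ A : SL(2, F), -A = A := fun A => Subtype.ext (by
    rw [Matrix.SpecialLinearGroup.coe_neg]; ext i j; simp [CharTwo.neg_eq])
  let π : SL(2, F) →* PSL2 F := QuotientGroup.mk' _
  have hπ : Function.Injective π := by
    intro A B h
    rcases Dickson.mk_eq_mk_iff.1 h with e | e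
    · exact e
    · exact e.trans (hneg B)
  let K := H.map π
  let ε : Multiplicative U →* K := MonoidHom.mk'
    (fun u => ⟨π (upper (Multiplicative.toAdd u : U)), _, hU _ (Multiplicative.toAdd u).2, rfl⟩)
    fun u v => Subtype.ext (by
      show π _ = π _ * π _
      rw [← map_mul, PLocalB.upper_mul]; rfl)
  have hε : Function.Injective ε := by
    intro u v h
    have h' := congrArg (fun M : SL(2, F) => M 0 1) (hπ (congrArg Subtype.val h))
    simp at h'
    exact h'
  have hexp : ∀ u : Multiplicative U, u ^ 2 = 1 := by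
    intro u
    refine Multiplicative.toAdd.injective (Subtype.ext ?_)
    simp [toAdd_pow, two_nsmul, CharTwo.add_self_eq_zero]
  let L₁ : K := ⟨π (lower a), _, hl, rfl⟩
  have hL₁ : L₁ ≠ 1 := by
    intro h
    have := congrArg (fun M : SL(2, F) => M 1 0)
      (hπ ((congrArg Subtype.val h).trans (map_one π).symm))
    simp [lower] at this
    exact ha0 this
  have hL₁2 : L₁ * L₁ = 1 := by
    refine Subtype.ext ?_
    show π (lower a) * π (lower a) = 1
    rw [← map_mul, ← map_one π]
    congr 1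
    refine Subtype.ext ?_
    ext i j
    simp only [Matrix.SpecialLinearGroup.coe_mul, Matrix.mul_apply, Fin.sum_univ_two]
    fin_cases i <;> fin_cases j <;> simp [lower, CharTwo.add_self_eq_zero]
  let U₁ : K := ε (Multiplicative.ofAdd ⟨s₀, hs₀⟩)
  have hU₁ : U₁ ≠ 1 := by
    intro h
    have := congrArg (fun u : Multiplicative U => ((Multiplicative.toAdd u : U) : F))
      (hε (h.trans (map_one ε).symm))
    simp at this
    exact hs0 this
  have hnc : U₁ * L₁ ≠ L₁ * U₁ := by
    intro h
    have h' : π (upper s₀ * lower a) = π (lower a * upper s₀) := by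
      rw [map_mul, map_mul]; exact congrArg Subtype.val h
    have := congrArg (fun M : SL(2, F) => M 0 0) (hπ h')
    simp only [Matrix.SpecialLinearGroup.coe_mul, Matrix.mul_apply, Fin.sum_univ_two] at this
    simp [upper, lower, hs0, ha0] at this
  rcases Dickson.kind' 2 K with ⟨k, -, hcyc, -⟩ | ⟨t, ht⟩ | ⟨n, -, -, ⟨e⟩⟩ | ⟨⟨e⟩⟩ | ⟨⟨e⟩⟩ |
      ⟨⟨e⟩⟩ | ⟨T, -, -, hiso, -, D, hD⟩
  · exact (hnc (by
      obtain ⟨g, hg⟩ := hcyc
      obtain ⟨i, hi⟩ := Subgroup.mem_zpowers_iff.1 (hg U₁)
      obtain ⟨j, hj⟩ := Subgroup.mem_zpowers_iff.1 (hg L₁)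
      rw [← hi, ← hj, ← _root_.zpow_add, ← _root_.zpow_add, add_comm])).elim
  · exfalso
    have hu := ht _ (Subgroup.mem_map_of_mem π (hU s₀ hs₀))
    have hlw := ht _ (Subgroup.mem_map_of_mem π hl)
    rw [mul_smul, mul_smul, smul_eq_iff_eq_inv_smul] at hu hlw
    generalize t⁻¹ • (∞ : OnePoint F) = w at hu hlw
    have hu' : upper s₀ • w = w := hu
    have hl' : lower a • w = w := hlw
    cases w with
    | infty =>
      rw [PLocalB.smul_infty_iff] at hl'
      simp [lower] at hl'
      exact ha0 hl'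
    | coe z =>
      rw [PLocalB.smul_coe_eq, if_neg (by simp)] at hu'
      simp at hu'
      exact hs0 hu'
  · exfalso
    have h4K : 4 ∣ 2 * n := by
      have h1 : Nat.card (Multiplicative U) ∣ Nat.card K := Subgroup.card_dvd_of_injective ε hε
      rwa [Nat.card_congr (Multiplicative.toAdd (α := U)), h4, Nat.card_congr e.toEquiv,
        DihedralGroup.nat_card] at h1
    obtain ⟨m, rfl⟩ : 2 ∣ n := Nat.dvd_of_mul_dvd_mul_left two_pos h4K
    have hm0 : 0 < m := by
      rcases Nat.eq_zero_or_pos m with rfl | h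
      · have : Finite (DihedralGroup (2 * 0)) := Finite.of_equiv K e.toEquiv
        exact absurd (Nat.card_pos (α := DihedralGroup (2 * 0))) (by simp)
      · exact h
    have hmm : (m : ZMod (2 * m)) + m = 0 := by
      rw [← Nat.cast_add, ← two_mul, ZMod.natCast_self]
    have hz : ∀ x : DihedralGroup (2 * m),
        x * DihedralGroup.r (m : ZMod (2 * m)) = DihedralGroup.r (m : ZMod (2 * m)) * x := by
      rintro (i | i)
      · rw [DihedralGroup.r_mul_r, DihedralGroup.r_mul_r, add_comm]
      · rw [DihedralGroup.sr_mul_r, DihedralGroup.r_mul_sr]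
        congr 1
        linear_combination hmm
    obtain ⟨z, hz'⟩ := e.surjective (DihedralGroup.r (m : ZMod (2 * m)))
    obtain ⟨A, -, hA⟩ := z.2
    have hcomm : ∀ B ∈ H, B * A = A * B := by
      intro B hB
      refine hπ ?_
      rw [map_mul, map_mul, hA]
      have : (⟨π B, B, hB, rfl⟩ : K) * z = z * ⟨π B, B, hB, rfl⟩ :=
        e.injective (by rw [map_mul, map_mul, hz', hz])
      exact congrArg Subtype.val this
    have hup := congrArg Subtype.val (hcomm _ (hU s₀ hs₀))
    have hlo := congrArg Subtype.val (hcomm _ hl)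
    have e10 := congrFun (congrFun hup 0) 0
    have e00 := congrFun (congrFun hup 0) 1
    have e01 := congrFun (congrFun hlo 0) 0
    simp only [Matrix.SpecialLinearGroup.coe_mul, Matrix.mul_apply, Fin.sum_univ_two] at e10 e00 e01
    simp [upper, lower] at e10 e00 e01
    have h10 : A 1 0 = 0 := e10.resolve_left hs0
    have h01 : A 0 1 = 0 := e01.resolve_right ha0
    have h11 : A 1 1 = A 0 0 := mul_left_cancel₀ hs0 (by linear_combination e00)
    have hd := PLocalB.det_entries A
    rw [h10, h11, mul_zero, sub_zero, ← sq] at hd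
    have h00 : A 0 0 = 1 := CharTwo.sq_injective (hd.trans (one_pow 2).symm)
    have hA1 : A = 1 := Subtype.ext (by
      ext i j; fin_cases i <;> fin_cases j <;> simp [h10, h01, h11, h00])
    have hz1 : z = 1 := Subtype.ext (by rw [← hA, hA1, map_one]; rfl)
    rw [hz1, map_one, ← DihedralGroup.r_zero] at hz'
    have h0 : (m : ZMod (2 * m)) = 0 := (DihedralGroup.r.injEq _ _ ▸ hz').symm
    rw [ZMod.natCast_eq_zero_iff] at h0
    have := Nat.le_of_dvd hm0 h0
    omega
  · exfalso
    have key : ∀ x y : ↥(alternatingGroup (Fin 4)), x * x = 1 → y * y = 1 → x * y = y * x := by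
      decide
    refine hnc (e.injective ?_)
    rw [map_mul, map_mul]
    refine key _ _ ?_ (by rw [← map_mul, hL₁2, map_one])
    rw [← map_mul, ← map_mul, ← sq, hexp, map_one, map_one]
  · exfalso
    obtain ⟨x, hx4, hx2⟩ : ∃ x : Equiv.Perm (Fin 4), x ^ 4 = 1 ∧ x ^ 2 ≠ 1 :=
      ⟨finRotate 4, Equiv.ext (by decide), fun h => absurd (Equiv.congr_fun h 0) (by decide)⟩
    obtain ⟨y, rfl⟩ := e.surjective x
    obtain ⟨A, -, hA⟩ := y.2
    refine hx2 ?_
    rw [← map_pow] at hx4 ⊢
    have h4' : y ^ 4 = 1 := e.injective (hx4.trans (map_one e).symm)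
    have : A ^ 4 = 1 := hπ (by rw [map_pow, map_one, hA]; exact congrArg Subtype.val h4')
    have hA2 := sq_eq_one_of_pow_four this
    have : y ^ 2 = 1 := Subtype.ext (by
      show (y : PSL2 F) ^ 2 = 1
      rw [← hA, ← map_pow, hA2, map_one])
    rw [this, map_one]
  · exfalso
    have h60 : Nat.card K = 60 := (Nat.card_congr e.toEquiv).trans
      (by rw [nat_card_alternatingGroup (α := Fin 5), Nat.card_fin]; norm_num [Nat.factorial])
    have hdiv : 5 ∣ Nat.card SL(2, F) := by
      have h1 : Nat.card K ∣ Nat.card (PSL2 F) := Subgroup.card_subgroup_dvd_card K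
      have h2 : Nat.card (PSL2 F) ∣ Nat.card SL(2, F) :=
        Subgroup.card_dvd_of_surjective π (QuotientGroup.mk'_surjective _)
      exact ((by norm_num : 5 ∣ 60).trans (h60 ▸ h1)).trans h2
    rw [LinearGroup.card_SL_two, hq] at hdiv
    obtain ⟨m, rfl⟩ := hr
    rcases (Nat.Prime.dvd_mul (by norm_num : Nat.Prime 5)).1 hdiv with h | h
    · have := (Nat.prime_five.dvd_of_dvd_pow h)
      norm_num at this
    · have h16 : (2 ^ (2 * m + 1)) ^ 2 % 5 = 4 := by
        rw [← pow_mul, show (2 * m + 1) * 2 = 4 * m + 2 by ring, pow_add, pow_mul, Nat.mul_mod,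
          Nat.pow_mod]
        norm_num
      have := Nat.one_le_pow 2 (2 ^ (2 * m + 1)) (Nat.two_pow_pos _)
      omega
  · have hmem : ∀ s ∈ U, (2 + a * s) ^ 2 ∈ T := by
      intro s hs
      have h := trace_sq_mem T D (hD _ (Subgroup.mem_map_of_mem π (mul_mem (hU s hs) hl)))
      convert h using 2
      simp [Matrix.mul_apply, Fin.sum_univ_two]
      ring
    have hlin : ∀ s ∈ U, a * s ∈ T := by
      intro s hs
      have h2 : (2 : F) = 0 := CharTwo.two_eq_zero
      have := hmem s hs
      rw [h2, zero_add] at this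
      obtain ⟨z, hz⟩ := (FiniteField.isSquare_of_char_two
        (ringChar.eq T 2) ⟨_, this⟩ : IsSquare (⟨_, this⟩ : T))
      have hz' : (a * s) ^ 2 = (z : F) ^ 2 := by
        have := congrArg Subtype.val hz
        simpa [sq] using this
      rw [(CharTwo.sq_injective hz' : a * s = z)]
      exact z.2
    have hF₀ : F₀ ≤ T := by
      intro c hc
      have h := div_mem (hlin _ (hsmul c hc s₀ hs₀)) (hlin s₀ hs₀)
      rwa [show a * (c * s₀) / (a * s₀) = c by field_simp] at h
    have hT : T = ⊤ := (htop T hF₀).resolve_left fun h => has₀ (h ▸ hlin s₀ hs₀)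
    subst hT
    have hK : K = ⊤ := by
      refine Subgroup.eq_top_of_le_card K ?_
      let f : F →+* (⊤ : Subfield F) := (RingHom.id F).codRestrict _ fun _ => trivial
      refine le_trans (Nat.card_le_card_of_injective _ (Dickson.extend_injective f)) ?_
      rcases hiso with ⟨⟨e⟩⟩ | ⟨⟨e⟩⟩
      · exact (Nat.card_congr e.toEquiv).ge
      · have := Finite.of_equiv K e.toEquiv
        exact (Nat.card_le_card_of_injective _
          Matrix.ProjectiveSpecialLinearGroup.toPGL_injective).trans (Nat.card_congr e.toEquiv).ge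
    intro A
    obtain ⟨B, hB, hBA⟩ : π A ∈ K := hK ▸ Subgroup.mem_top _
    exact Or.inl (hπ hBA ▸ hB)

end Cfsg.Agent.SL3Geo60
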