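import Cfsg.Agent.S5631

/-!
S5774 (1): stabilisers of subspaces are maximal in `SL₃`.
-/

set_option autoImplicit false

namespace Cfsg.Agent.SL3Geo60

theorem subspace_maximal {F : Type*} [Field F] [Fintype F] :
    ∀ W : Submodule F (Fin 3 → F), W ≠ ⊥ → W ≠ ⊤ → Cfsg.Geo.IsMaximalIn (Cfsg.Geo.specialLinear (Fin 3) F) (Cfsg.Geo.subspaceStabilizer W ⊓ Cfsg.Geo.specialLinear (Fin 3) F) :=
  fun _ h0 h1 => Cfsg.Agent.S5631.core h0 h1

end Cfsg.Agent.SL3Geo60
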